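import Cfsg.Agent.Helper28.U62Sub
import Cfsg.Agent.Helper28.U62A.Main
import Cfsg.Agent.Helper28.U62K1.Main
import Cfsg.Agent.Helper28.U62K2.Main
import Cfsg.Agent.Helper28.U62K3.Main
import Cfsg.Agent.Helper28.U62K4.Main
set_option autoImplicit false
set_option linter.constructorNameAsVariable false
namespace Cfsg.Agent.Helper28.U62C
open Cfsg.Agent.Helper28 Cfsg.Spor

theorem hY0 : U62A.Y = Set.range (fun z => FreeGroup.of (U62K1D.iota z)) := by
  ext y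
  constructor
  · intro (h : y ∈ U62A.Ylist)
    simp only [U62A.Ylist, List.mem_cons, List.not_mem_nil, or_false] at h
    rcases h with rfl | rfl | rfl | rfl | rfl | rfl | rfl
    exacts [⟨.c, rfl⟩, ⟨.d, rfl⟩, ⟨.e, rfl⟩, ⟨.f, rfl⟩, ⟨.g, rfl⟩, ⟨.h, rfl⟩, ⟨.i, rfl⟩]
  · rintro ⟨z, rfl⟩
    show _ ∈ U62A.Ylist
    cases z <;> simp [U62A.Ylist, U62K1D.iota]

theorem hY1 : U62K1.Y = Set.range (fun z => FreeGroup.of (U62K2D.iota z)) := by
  ext y
  constructor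
  · intro (h : y ∈ U62K1.Ylist)
    simp only [U62K1.Ylist, List.mem_cons, List.not_mem_nil, or_false] at h
    rcases h with rfl | rfl | rfl | rfl | rfl | rfl
    exacts [⟨.c, rfl⟩, ⟨.d, rfl⟩, ⟨.e, rfl⟩, ⟨.f, rfl⟩, ⟨.h, rfl⟩, ⟨.i, rfl⟩]
  · rintro ⟨z, rfl⟩
    show _ ∈ U62K1.Ylist
    cases z <;> simp [U62K1.Ylist, U62K2D.iota]

theorem hY2 : U62K2.Y = Set.range (fun z => FreeGroup.of (U62K3D.iota z)) := by
  ext y
  constructor
  · intro (h : y ∈ U62K2.Ylist)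
    simp only [U62K2.Ylist, List.mem_cons, List.not_mem_nil, or_false] at h
    rcases h with rfl | rfl | rfl | rfl | rfl
    exacts [⟨.c, rfl⟩, ⟨.d, rfl⟩, ⟨.e, rfl⟩, ⟨.h, rfl⟩, ⟨.i, rfl⟩]
  · rintro ⟨z, rfl⟩
    show _ ∈ U62K2.Ylist
    cases z <;> simp [U62K2.Ylist, U62K3D.iota]

theorem hY3 : U62K3.Y = Set.range (fun z => FreeGroup.of (U62K4D.iota z)) := by
  ext y
  constructor
  · intro (h : y ∈ U62K3.Ylist)
    simp only [U62K3.Ylist, List.mem_cons, List.not_mem_nil, or_false] at h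
    rcases h with rfl | rfl | rfl | rfl
    exacts [⟨.c, rfl⟩, ⟨.d, rfl⟩, ⟨.h, rfl⟩, ⟨.i, rfl⟩]
  · rintro ⟨z, rfl⟩
    show _ ∈ U62K3.Ylist
    cases z <;> simp [U62K3.Ylist, U62K4D.iota]

theorem hY4 : U62K4.Y = ∅ := by
  ext y; simp [U62K4.Ylist]

theorem upper4 : Finite (PresentedGroup U62K4.R) ∧ Nat.card (PresentedGroup U62K4.R) = 120 :=
  card_of_index_bot U62K4.R U62K4.Y hY4 120 (by omega) U62K4.main_index

theorem upper3 : Finite (PresentedGroup U62K3.R) ∧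
    Nat.card (PresentedGroup U62K3.R) ≤ 16 * 120 := by
  obtain ⟨h1, h2, -⟩ := card_le_of_link U62K4D.iota U62K4.R U62K3.R U62K4D.hrels
    U62K3.Y hY3 16 (120) (by omega) U62K3.main_index upper4.1 (le_of_eq upper4.2)
  exact ⟨h1, h2⟩

theorem upper2 : Finite (PresentedGroup U62K2.R) ∧
    Nat.card (PresentedGroup U62K2.R) ≤ 27 * (16 * 120) := by
  obtain ⟨h1, h2, -⟩ := card_le_of_link U62K3D.iota U62K3.R U62K2.R U62K3D.hrels
    U62K2.Y hY2 27 (16 * 120) (by omega) U62K2.main_index upper3.1 upper3.2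
  exact ⟨h1, h2⟩

theorem upper1 : Finite (PresentedGroup U62K1.R) ∧
    Nat.card (PresentedGroup U62K1.R) ≤ 28 * (27 * (16 * 120)) := by
  obtain ⟨h1, h2, -⟩ := card_le_of_link U62K2D.iota U62K2.R U62K1.R U62K2D.hrels
    U62K1.Y hY1 28 (27 * (16 * 120)) (by omega) U62K1.main_index upper2.1 upper2.2
  exact ⟨h1, h2⟩

theorem upper0 : Finite (PresentedGroup U62A.R) ∧
    Nat.card (PresentedGroup U62A.R) ≤ 6336 * (28 * (27 * (16 * 120))) := by
  obtain ⟨h1, h2, -⟩ := card_le_of_link U62K1D.iota U62K1.R U62A.R U62K1D.hrels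
    U62A.Y hY0 6336 (28 * (27 * (16 * 120))) (by omega) U62A.main_index upper1.1 upper1.2
  exact ⟨h1, h2⟩

theorem upper : Finite (PresentedGroup U62A.R) ∧ Nat.card (PresentedGroup U62A.R) ≤ 9196830720 :=
  ⟨upper0.1, le_trans upper0.2 (by norm_num)⟩

end Cfsg.Agent.Helper28.U62C
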